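import Groth.Agent.EmbedFinLib.Stage
import Groth.Agent.EtTraceLib.ConstSect
import Groth.Agent.PBCLib.Embed

/-!
# Constructible sheaves embed into direct images of constant sheaves from finite schemes
-/

set_option autoImplicit false
set_option linter.style.haveILetI false
set_option backward.isDefEq.respectTransparency false
set_option backward.isDefEq.respectTransparency.types false
set_option maxHeartbeats 1000000

universe u

open CategoryTheory CategoryTheory.Limits AlgebraicGeometry TopologicalSpace Opposite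

noncomputable section

namespace Groth.Agent.EmbedFinLib

open EtPtsLib EtTraceLib PBCLib

section CMap

variable {Z T : Scheme.{u}} (q : Z ⟶ T) (M : AddCommGrpCat.{u + 1})

/-- The constants as a map of presheaves into the direct image of the constant sheaf. -/
def cpre : (Functor.const T.Etaleᵒᵖ).obj M ⟶ ((EtCoh.push q).obj (cSh Z M)).obj where
  app U := cst M ((EtCoh.bc q).obj U.unop)
  naturality U V k := by
    change 𝟙 M ≫ _ = _
    rw [Category.id_comp]
    exact (cst_map M ((EtCoh.bc q).map k.unop)).symm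

/-- The map from a constant sheaf into the direct image of the constant sheaf. -/
def cmap : cSh T M ⟶ (EtCoh.push q).obj (cSh Z M) :=
  ((sheafificationAdjunction T.smallEtaleTopology AddCommGrpCat.{u + 1}).homEquiv _ _).symm (cpre q M)

theorem cmap_cst (U : T.Etale) (c : M) :
    (cmap q M).hom.app (op U) (cst M U c) = cst M ((EtCoh.bc q).obj U) c := by
  have h : CategoryTheory.toSheafify T.smallEtaleTopology ((Functor.const _).obj M) ≫ (cmap q M).hom = cpre q M := by
    have h := ((sheafificationAdjunction T.smallEtaleTopology AddCommGrpCat.{u + 1}).homEquiv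
      ((Functor.const _).obj M) ((EtCoh.push q).obj (cSh Z M))).apply_symm_apply (cpre q M)
    rwa [Adjunction.homEquiv_unit] at h
  exact congr($(congrArg (fun t : (Functor.const T.Etaleᵒᵖ).obj M ⟶ ((EtCoh.push q).obj (cSh Z M)).obj =>
    t.app (op U)) h) c)

theorem cval_cmap (U : T.Etale) (s : EtCoh.sect (cSh T M) U) (z : ((EtCoh.bc q).obj U).left) :
    cval ((EtCoh.bc q).obj U) ((cmap q M).hom.app (op U) s) z = cval U s (pullback.fst U.hom q z) := by
  obtain ⟨W, k, w, hw, hW⟩ := isVal_cval U s (pullback.fst U.hom q z)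
  obtain ⟨z', hz'⟩ : z ∈ Set.range ((EtCoh.bc q).map k).left := by
    have e : ((EtCoh.bc q).map k).left = pullback.map W.hom q U.hom q k.left (𝟙 Z) (𝟙 T)
        ((Category.comp_id _).trans (Over.w k.hom).symm) ((Category.comp_id q).trans (Category.id_comp q).symm) := by
      refine pullback.hom_ext ?_ ?_
      · exact (pullback.lift_fst _ _ _).trans (pullback.lift_fst _ _ _).symm
      · exact ((pullback.lift_snd _ _ _).trans (Category.comp_id _).symm).trans (pullback.lift_snd _ _ _).symm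
    rw [e]
    haveI : IsIso (𝟙 T) := IsIso.id T
    haveI : Mono (𝟙 T) := IsIso.mono_of_iso _
    exact (Set.ext_iff.1 (Scheme.Pullback.range_map W.hom q U.hom q k.left (𝟙 Z) (𝟙 T) _ _) z).2 ⟨⟨w, hw⟩, ⟨_, rfl⟩⟩
  rw [← hz', ← cval_map]
  have hn : (cSh Z M).obj.map ((EtCoh.bc q).map k).op ((cmap q M).hom.app (op U) s) =
      (cmap q M).hom.app (op W) ((cSh T M).obj.map k.op s) :=
    (NatTrans.naturality_apply (cmap q M).hom k.op s).symm
  rw [hn, hW, cmap_cst, cval_cst]
  exact congrArg (cval U s) (congrArg (pullback.fst U.hom q) hz'.symm)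

theorem mono_cmap [Surjective q] : Mono (cmap q M) := by
  refine (mono_iff_ab _).2 fun Ω _ _ ξ => (injective_iff_map_eq_zero ((EtCoh.stalk ξ).map (cmap q M)).hom).2
    fun z hz => ?_
  obtain ⟨U, l, s, rfl⟩ := (Scheme.pointSmallEtale ξ).toPresheafFiber_jointly_surjective z
  have h1 : germ ξ _ l ((cmap q M).hom.app (op U) s) = germ ξ _ l (0 : EtCoh.sect ((EtCoh.push q).obj (cSh Z M)) U) := by
    refine ((Scheme.pointSmallEtale ξ).toPresheafFiber_naturality_apply (cmap q M).hom U l s).symm.trans (hz.trans ?_)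
    exact (map_zero (((Scheme.pointSmallEtale ξ).toPresheafFiber U l ((EtCoh.push q).obj (cSh Z M)).obj)).hom).symm
  obtain ⟨V, p, y, hy, hV⟩ := ((Scheme.pointSmallEtale ξ).toPresheafFiber_eq_iff' U l _ _).1 h1
  have h2 : (cSh T M).obj.map p.op s = 0 := cval_ext fun v => by
    haveI : Surjective (pullback.fst V.hom q) := MorphismProperty.pullback_fst _ _ inferInstance
    obtain ⟨z, rfl⟩ := (pullback.fst V.hom q).surjective v
    rw [← cval_cmap, cval_zero, show (cmap q M).hom.app (op V) ((cSh T M).obj.map p.op s) =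
      ((EtCoh.push q).obj (cSh Z M)).obj.map p.op ((cmap q M).hom.app (op U) s) from
        NatTrans.naturality_apply (cmap q M).hom p.op s]
    refine Eq.trans (congrArg (fun t => cval ((EtCoh.bc q).obj V) t z) (hV.trans (map_zero _))) ?_
    exact cval_zero ((EtCoh.bc q).obj V) z
  rw [← hy]
  refine (germ_map ξ (cSh T M) p y s).symm.trans ?_
  rw [h2]
  exact map_zero _

/-- The comparison of direct images along a factorisation. -/
def stagePush {S : Scheme.{u}} (g : T ⟶ S) :
    (EtCoh.push g).obj (cSh T M) ⟶ (EtCoh.push (q ≫ g)).obj (cSh Z M) :=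
  (EtCoh.push g).map (cmap q M) ≫ (EtCoh.pushComp g q).hom.app (cSh Z M)

theorem mono_stagePush [Surjective q] {S : Scheme.{u}} (g : T ⟶ S) : Mono (stagePush q M g) := by
  haveI := mono_cmap q M
  haveI := (EtCoh.pullPushAdj g).rightAdjoint_preservesLimits.{0, 0}
  haveI : Mono ((EtCoh.push g).map (cmap q M)) := inferInstance
  exact mono_comp _ _

theorem cval_stagePush {S : Scheme.{u}} (g : T ⟶ S) (V : S.Etale) (t : EtCoh.sect (cSh T M) ((EtCoh.bc g).obj V))
    (z : ((EtCoh.bc (q ≫ g)).obj V).left) :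
    cval ((EtCoh.bc (q ≫ g)).obj V) ((stagePush q M g).hom.app (op V) t) z =
      cval ((EtCoh.bc g).obj V) t (stageMap V.hom (q ≫ g) (rfl : q ≫ g = q ≫ g) z) := by
  let k := (MorphismProperty.Over.pullbackComp (P := EtCoh.etaleMP.{u}) (Q := ⊤) q g).hom.app V
  have hk : k.left ≫ pullback.fst (pullback.snd V.hom g) q = stageMap V.hom (q ≫ g) (rfl : q ≫ g = q ≫ g) := by
    refine pullback.hom_ext ?_ ?_
    · rw [stageMap, pullback.lift_fst, Category.assoc]
      exact MorphismProperty.Over.pullbackComp_left_fst_fst q g V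
    · rw [stageMap, pullback.lift_snd, Category.assoc, pullback.condition, ← Category.assoc]
      exact congrArg (· ≫ q) (Over.w k.hom)
  show cval ((EtCoh.bc (q ≫ g)).obj V) ((cSh Z M).obj.map k.op ((cmap q M).hom.app (op ((EtCoh.bc g).obj V)) t)) z = _
  refine (cval_map k _ z).trans ((cval_cmap q M _ t _).trans ?_)
  exact congrArg (cval _ t) congr($hk z)

end CMap

variable {X : Scheme.{u}}

/-- Finitely many sections over affines lying over affine opens have all stalk elements as germs. -/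
theorem exists_affine_generators [CompactSpace X] [QuasiSeparatedSpace X] {F : EtCoh.Ab X}
    (hF : EtPBC.IsConstructible F) :
    ∃ (K : Type (u + 1)) (_ : Finite K) (V : K → X.Etale) (W : K → X.Opens) (s : ∀ k, EtCoh.sect F (V k)),
      (∀ k, IsAffine (V k).left) ∧ (∀ k, IsAffineOpen (W k)) ∧ (∀ k v, (V k).hom v ∈ W k) ∧
      ∀ (Ω : Type u) [Field Ω] [IsSepClosed Ω] (ζ : Spec (CommRingCat.of Ω) ⟶ X) (a : (EtCoh.stalk ζ).obj F),
        ∃ (k : K) (l : (Scheme.pointSmallEtale ζ).fiber.obj (V k)), germ ζ F l (s k) = a := by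
  classical
  obtain ⟨ι, _, U, N, θ, hU, hN, hgen⟩ := FLCLib.exists_generators hF
  have hp : ∀ i (p : (U i).left), ∃ (W : X.Opens) (O : (U i).left.Opens), IsAffineOpen W ∧ IsAffineOpen O ∧ p ∈ O ∧
      ∀ v ∈ O, (U i).hom v ∈ W := fun i p => by
    obtain ⟨W, hW, hpW, -⟩ := exists_isAffineOpen_mem_and_subset (X := X) (x := (U i).hom p) (U := ⊤) trivial
    obtain ⟨O, hO, hpO, hOW⟩ := exists_isAffineOpen_mem_and_subset (U := (U i).hom ⁻¹ᵁ W) hpW
    exact ⟨W, O, hW, hO, hpO, fun v hv => hOW hv⟩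
  choose W O hW hO hpO hOW using hp
  have hfin : ∀ i, ∃ t : Finset (U i).left, Set.univ ⊆ ⋃ p ∈ t, (O i p : Set (U i).left) := fun i => by
    haveI := hU i
    exact isCompact_univ.elim_finite_subcover (fun p => (O i p : Set (U i).left)) (fun p => (O i p).isOpen)
      fun p _ => Set.mem_iUnion.2 ⟨p, hpO i p⟩
  choose t ht using hfin
  let K := Σ i : ι, t i × N i
  haveI := hN
  haveI : Finite K := inferInstance
  refine ⟨K, inferInstance, fun k => openSub (U k.1) (O k.1 k.2.1.1), fun k => W k.1 k.2.1.1,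
    fun k => F.obj.map (openIncl (U k.1) (O k.1 k.2.1.1)).op (θ k.1 k.2.2), fun k => hO _ _, fun k => hW _ _,
    fun k v => hOW _ _ _ v.2, fun Ω _ _ ζ a => ?_⟩
  obtain ⟨i, l, hl⟩ := hgen Ω ζ
  obtain ⟨m, hm⟩ := hl.2 a
  obtain ⟨p, hpt, hp⟩ := Set.mem_iUnion₂.1 (ht i (Set.mem_univ (liftHom ζ l default)))
  obtain ⟨y, hy⟩ := exists_fiber_map_eq ζ (openIncl (U i) (O i p)) l (⟨_, hp⟩ : (O i p).toScheme) rfl
  refine ⟨⟨i, ⟨p, hpt⟩, m⟩, y, ?_⟩
  refine (germ_map ζ F (openIncl (U i) (O i p)) y (θ i m)).trans ?_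
  rw [hy]
  exact hm

/-- A map into a direct image of a constant sheaf along an integral morphism comes from a finite stage. -/
theorem exists_factor [CompactSpace X] [QuasiSeparatedSpace X] {F : EtCoh.Ab X} (hF : EtPBC.IsConstructible F)
    {Z : Scheme.{u}} (π : Z ⟶ X) [IsIntegralHom π] (M : AddCommGrpCat.{u + 1}) [Finite M]
    (a : F ⟶ (EtCoh.push π).obj (cSh Z M)) :
    ∃ (T : Scheme.{u}) (g : T ⟶ X) (_ : IsFinite g) (b : F ⟶ (EtCoh.push g).obj (cSh T M))
      (φ : (EtCoh.push g).obj (cSh T M) ⟶ (EtCoh.push π).obj (cSh Z M)), b ≫ φ = a := by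
  classical
  obtain ⟨K, _, V, W, s, hV, hW, hVW, hgen⟩ := exists_affine_generators hF
  haveI : Inhabited M := ⟨0⟩
  haveI hVk : ∀ k, IsAffine ((𝟭 Scheme).obj (V k).left) := hV
  have hd : ∀ k, ∃ D : Finset Γ(Z, π ⁻¹ᵁ W k), ∀ (T : Scheme.{u}) (q : Z ⟶ T) (g : T ⟶ X) (hqg : q ≫ g = π),
      Surjective q → (∀ d ∈ D, ∃ τ, (q.appLE (g ⁻¹ᵁ W k) (π ⁻¹ᵁ W k) (preimage_le_comp hqg (W k))).hom τ = d) →
        ∃ f' : ↥(pullback (V k).hom g) → M, IsLocallyConstant f' ∧ ∀ z, f' (stageMap (V k).hom π hqg z) =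
          cval ((EtCoh.bc π).obj (V k)) (a.hom.app (op (V k)) (s k)) z := fun k => by
    haveI := hV k
    exact exists_finset_locConst (V k).hom π (W k) (hW k) (hVW k) _ (isLocallyConstant_cval _ _)
  choose D hD using hd
  obtain ⟨T, q, g, hg, hq, hqg, hτ⟩ := exists_stage π (fun j : Σ k, D k => W j.1) (fun j => hW j.1) fun j => j.2.1
  haveI := hq
  have hex := fun k => hD k T q g hqg hq fun d hd => hτ ⟨k, ⟨d, hd⟩⟩
  subst hqg
  haveI := mono_stagePush q M g
  let φ := stagePush q M g
  have hst : ∀ (Ω : Type u) [Field Ω] [IsSepClosed Ω] (ζ : Spec (CommRingCat.of Ω) ⟶ X)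
      (e : (EtCoh.stalk ζ).obj F), (EtCoh.stalk ζ).map (a ≫ cokernel.π φ) e = 0 := fun Ω _ _ ζ e => by
    obtain ⟨k, l, rfl⟩ := hgen Ω ζ e
    obtain ⟨f', hf', hz⟩ := hex k
    obtain ⟨t, ht⟩ := exists_cval_eq ((EtCoh.bc g).obj (V k)) f' hf'
    have he : φ.hom.app (op (V k)) t = a.hom.app (op (V k)) (s k) := cval_ext fun z => by
      refine (cval_stagePush q M g (V k) t z).trans ?_
      rw [ht, hz]
    rw [Functor.map_comp, ConcreteCategory.comp_apply]
    rw [show (EtCoh.stalk ζ).map a (germ ζ F l (s k)) = (EtCoh.stalk ζ).map φ (germ ζ _ l t) from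
      ((Scheme.pointSmallEtale ζ).toPresheafFiber_naturality_apply a.hom (V k) l (s k)).trans
        ((congrArg _ he.symm).trans
          ((Scheme.pointSmallEtale ζ).toPresheafFiber_naturality_apply φ.hom (V k) l t).symm)]
    rw [← ConcreteCategory.comp_apply, ← Functor.map_comp, cokernel.condition, Functor.map_zero]
    rfl
  have hker : a ≫ cokernel.π φ = 0 := by
    refine Sheaf.hom_ext (NatTrans.ext (funext fun U => AddCommGrpCat.ext fun e => ?_))
    refine EtPtsLib.sect_ext _ U.unop _ _ fun Ω _ _ ξ l => ?_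
    refine ((Scheme.pointSmallEtale ξ).toPresheafFiber_naturality_apply (a ≫ cokernel.π φ).hom U.unop l e).symm.trans ?_
    exact (hst Ω ξ _).trans (map_zero _).symm
  exact ⟨T, g, hg, Abelian.monoLift φ a hker, φ, Abelian.monoLift_comp φ a hker⟩

/-- A constructible sheaf on a noetherian scheme embeds into finitely many direct images of finite constant
sheaves from finite schemes. -/
theorem exists_mono_finite [IsNoetherian X] {F : EtCoh.Ab X} (hF : EtPBC.IsConstructible F) :
    ∃ (n : ℕ) (Y : Fin n → Scheme.{u}) (f : ∀ i, Y i ⟶ X) (_ : ∀ i, IsFinite (f i))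
      (M : Fin n → Type) (_ : ∀ i, AddCommGroup (M i)) (_ : ∀ i, Finite (M i))
      (ι : F ⟶ ⨁ fun i => (EtCoh.push (f i)).obj (EtCoh.const (Y i) (M i))), Mono ι := by
  classical
  have hgen : FLCLib.GenConst F := (FLCLib.genCard_of_isConstructible hF).genConst
  obtain ⟨P, hP⟩ := PBCLib.exists_finite_detect hgen ⊤
  let x : Fin P.card → X := fun i => (P.equivFin.symm i).1
  let G := fun i => (EtCoh.pull (geomPtAlg (x i))).obj F
  let N := fun i => (EtCoh.push (geomPtAlg (x i))).obj (G i)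
  have hone : ∀ i, ∃ (M : Type) (_ : AddCommGroup M) (_ : Finite M) (Y : Scheme.{u}) (f : Y ⟶ X) (_ : IsFinite f)
      (b : F ⟶ (EtCoh.push f).obj (EtCoh.const Y M)) (φ : (EtCoh.push f).obj (EtCoh.const Y M) ⟶ N i),
        b ≫ φ = (EtCoh.pullPushAdj (geomPtAlg (x i))).unit.app F := fun i => by
    let gg := geomPtAlg (x i)
    obtain ⟨eG⟩ := PBCLib.nonempty_iso_const (G i)
    haveI := PBCLib.finite_sections_of_stalk (G i) (by
      haveI : Finite ↑((Scheme.pointSmallEtale (𝟙 _ ≫ gg)).presheafFiber.obj F.obj) :=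
        FLCLib.finite_stalk_of_genConst hgen (𝟙 _ ≫ gg)
      exact Finite.of_surjective _ (bijective_unitStalk gg (𝟙 _) F).2)
    obtain ⟨M, _, _, ⟨eM⟩⟩ := FLCLib.exists_small ((G i).obj.obj (op (EtCoh.top _)))
    let Ω := AlgebraicClosure (X.residueField (x i))
    let η := gg.toNormalization
    let π := gg.fromNormalization
    have hX' : IsAICScheme gg.normalization := isAICScheme_normalization gg (isAICScheme_spec_field _)
    haveI : IsIso ((EtCoh.pullPushAdj η).unit.app (ConstGenLib.C (AddCommGrpCat.of (ULift.{u + 1} M)))) :=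
      ConstGenLib.isIso_unit η _ (PBCLib.connAlong_of_aic hX' η)
    let e : (EtCoh.push gg).obj (G i) ≅ (EtCoh.push π).obj (cSh gg.normalization (AddCommGrpCat.of (ULift.{u + 1} M))) :=
      (EtCoh.pushCongr (show gg = η ≫ π from (Scheme.Hom.toNormalization_fromNormalization gg).symm)).app (G i) ≪≫
        ((EtCoh.pushComp π η).app (G i)).symm ≪≫ (EtCoh.push π).mapIso
          ((EtCoh.push η).mapIso (eG.symm ≪≫ (constantSheaf _ AddCommGrpCat.{u + 1}).mapIso eM.symm ≪≫
              ((EtCore.pullConstIso η).app _).symm) ≪≫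
            (asIso ((EtCoh.pullPushAdj η).unit.app (ConstGenLib.C (AddCommGrpCat.of (ULift.{u + 1} M))))).symm)
    obtain ⟨T, g, hg, b, φ, hb⟩ := exists_factor hF π (AddCommGrpCat.of (ULift.{u + 1} M))
      ((EtCoh.pullPushAdj gg).unit.app F ≫ e.hom)
    exact ⟨M, inferInstance, inferInstance, T, g, hg, b, φ ≫ e.inv, by
      rw [reassoc_of% hb, e.hom_inv_id, Category.comp_id]⟩
  choose M iM fM Y f hf b φ hb using hone
  letI := iM
  refine ⟨P.card, Y, f, hf, M, iM, fM, biproduct.lift b, ?_⟩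
  let a : F ⟶ ⨁ N := biproduct.lift fun i => (EtCoh.pullPushAdj (geomPtAlg (x i))).unit.app F
  haveI : Mono a := (mono_iff_ab a).2 fun Ω _ _ ζ =>
    (injective_iff_map_eq_zero ((EtCoh.stalk ζ).map a).hom).2 fun e he => hP Ω ζ trivial e fun y hy => by
      obtain ⟨i, rfl⟩ : ∃ i, x i = y := ⟨P.equivFin ⟨y, hy⟩, by simp [x]⟩
      rw [← biproduct.lift_π (fun i => (EtCoh.pullPushAdj (geomPtAlg (x i))).unit.app F) i, FLCLib.stalk_comp]
      exact (congrArg _ he).trans (map_zero _)
  haveI : Mono (biproduct.lift b ≫ biproduct.map φ) := by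
    have e : biproduct.lift b ≫ biproduct.map φ = a := biproduct.hom_ext _ _ fun i => by simp [a, hb]
    rw [e]; infer_instance
  exact mono_of_mono (biproduct.lift b) (biproduct.map φ)

end Groth.Agent.EmbedFinLib
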