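import Groth.Agent.EmbedFinLib.Main
import Groth.Agent.FinPushLib.Approx
import Groth.Agent.EtLimLib.Cofiltered

/-!
# Embedding constructible sheaves into finite direct images over qcqs schemes
-/

set_option autoImplicit false
set_option linter.style.haveILetI false
set_option backward.isDefEq.respectTransparency false
set_option backward.isDefEq.respectTransparency.types false
set_option maxHeartbeats 1000000
set_option synthInstance.maxHeartbeats 400000

universe u

open CategoryTheory CategoryTheory.Limits AlgebraicGeometry Opposite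
open Groth.Agent.EtLimLib

attribute [local instance] Groth.Agent.S0101.result Groth.Agent.EtLimLib.hasColimits

noncomputable section

namespace Groth.Agent.EmbedFinLib

theorem exists_mono_finite_qcqs {X : Scheme.{u}} [CompactSpace X] [QuasiSeparatedSpace X] {F : EtCoh.Ab X}
    (hF : EtPBC.IsConstructible F) :
    ∃ (n : ℕ) (Y : Fin n → Scheme.{u}) (f : ∀ i, Y i ⟶ X) (_ : ∀ i, IsFinite (f i))
      (_ : ∀ i, LocallyOfFinitePresentation (f i))
      (M : Fin n → Type) (_ : ∀ i, AddCommGroup (M i)) (_ : ∀ i, Finite (M i))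
      (ι : F ⟶ ⨁ fun i => (EtCoh.push (f i)).obj (EtCoh.const (Y i) (M i))), Mono ι := by
  classical
  obtain ⟨S₀, qS, hqS, hcS, hfS⟩ := NApproxLib.hasFTZ X
  haveI := hqS
  haveI := hcS
  haveI := NApproxLib.isLocallyNoetherian_of_isFTZ hfS
  obtain ⟨hS⟩ := NApproxLib.nonempty_isLimit_cone qS
  haveI : ∀ i, CompactSpace ((NApproxLib.sys qS).obj i) := fun i => NApproxLib.compactSpace_stage qS i.unop
  haveI : ∀ i, QuasiSeparatedSpace ((NApproxLib.sys qS).obj i) := fun i =>
    NApproxLib.quasiSeparatedSpace_stage qS i.unop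
  haveI : ∀ {i k} (a : i ⟶ k), IsAffineHom ((NApproxLib.sys qS).map a) := fun a => inferInstance
  obtain ⟨α, _, _, _, Fd, _⟩ := IsFiltered.exists_directed.{u} (NApproxLib.Idx qS)ᵒᵖᵒᵖ
  let Gd : αᵒᵖ ⥤ (NApproxLib.Idx qS)ᵒᵖ := Fd.op ⋙ unopUnop (NApproxLib.Idx qS)ᵒᵖ
  haveI : (unopUnop (NApproxLib.Idx qS)ᵒᵖ).Initial := inferInstance
  haveI : Gd.Initial := inferInstanceAs (Fd.op ⋙ unopUnop (NApproxLib.Idx qS)ᵒᵖ).Initial
  let SE : Sys α :=
    { Xs := Gd ⋙ NApproxLib.sys qS
      aff := fun a b h => inferInstanceAs (IsAffineHom ((NApproxLib.sys qS).map (Gd.map h)))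
      qc := fun a => inferInstanceAs (CompactSpace ((NApproxLib.sys qS).obj (Gd.obj a)))
      qs := fun a => inferInstanceAs (QuasiSeparatedSpace ((NApproxLib.sys qS).obj (Gd.obj a)))
      c := (NApproxLib.cone qS).whisker Gd
      hc := (Functor.Initial.isLimitWhiskerEquiv Gd (NApproxLib.cone qS)).symm hS }
  haveI : CompactSpace SE.c.pt := ‹CompactSpace X›
  haveI : QuasiSeparatedSpace SE.c.pt := ‹QuasiSeparatedSpace X›
  obtain ⟨a, G, hG, ⟨hr⟩⟩ := FinPushLib.exists_retract_stage SE F hF
  haveI : IsLocallyNoetherian (SE.X a) :=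
    NApproxLib.isLocallyNoetherian_of_isFTZ (NApproxLib.isFTZ_stage qS hfS _)
  haveI : CompactSpace (SE.X a) := SE.qc _
  haveI : AlgebraicGeometry.IsNoetherian (SE.X a) := {}
  obtain ⟨n, Y, f, hf, M, iM, fM, ι, hι⟩ := exists_mono_finite hG
  let v : X ⟶ SE.X a := SE.u a
  let f' := fun i => pullback.snd (f i) v
  haveI := hf
  haveI : ∀ i, LocallyOfFinitePresentation (f i) := fun i => inferInstance
  haveI hf' : ∀ i, IsFinite (f' i) := fun i => MorphismProperty.pullback_snd _ _ inferInstance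
  haveI hp' : ∀ i, LocallyOfFinitePresentation (f' i) := fun i => MorphismProperty.pullback_snd _ _ inferInstance
  haveI := hι
  haveI : (EtCoh.pull v).Additive := inferInstance
  let e : ∀ i, (EtCoh.pull v).obj ((EtCoh.push (f i)).obj (EtCoh.const (Y i) (M i))) ≅
      (EtCoh.push (f' i)).obj (EtCoh.const (pullback (f i) v) (M i)) := fun i =>
    haveI := EtPtsLib.isIso_baseChange0 (f i) v (f' i) (pullback.fst (f i) v) (IsPullback.of_hasPullback (f i) v)
      (EtCoh.const (Y i) (M i))
    asIso (EtCoh.baseChange0 (f i) v (f' i) (pullback.fst (f i) v) pullback.condition (EtCoh.const (Y i) (M i))) ≪≫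
      (EtCoh.push (f' i)).mapIso (EtCore.pullConst (pullback.fst (f i) v) (M i))
  let E := (EtCoh.pull v).mapBiproduct (fun i => (EtCoh.push (f i)).obj (EtCoh.const (Y i) (M i))) ≪≫
    biproduct.mapIso e
  haveI : Mono ((EtCoh.pull v).map ι) := inferInstance
  haveI : Mono hr.i := inferInstance
  exact ⟨n, fun i => pullback (f i) v, f', hf', hp', M, iM, fM, hr.i ≫ (EtCoh.pull v).map ι ≫ E.hom,
    mono_comp _ _⟩

end Groth.Agent.EmbedFinLib
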