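import Groth.Agent.FPApproxLib.FiniteModel
import Groth.Agent.ZMTFactorLib.Basic

/-!
# Finite stages of an integral morphism

An integral morphism factors through a finite one, by a surjection, so that prescribed finitely many sections
over affine opens come from the finite scheme; locally constant functions on étale affine schemes over the
integral scheme come from such a stage.
-/

set_option autoImplicit false
set_option linter.style.haveILetI false
set_option backward.isDefEq.respectTransparency false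
set_option backward.isDefEq.respectTransparency.types false

universe u

open CategoryTheory CategoryTheory.Limits AlgebraicGeometry TopologicalSpace Opposite

noncomputable section

namespace Groth.Agent.EmbedFinLib

variable {S Z : Scheme.{u}}

theorem preimage_le_comp {T : Scheme.{u}} {π : Z ⟶ S} {q : Z ⟶ T} {g : T ⟶ S} (hqg : q ≫ g = π) (W : S.Opens) :
    π ⁻¹ᵁ W ≤ q ⁻¹ᵁ (g ⁻¹ᵁ W) := by
  rw [← Scheme.Hom.comp_preimage, hqg]

theorem exists_stage [CompactSpace S] [QuasiSeparatedSpace S] (π : Z ⟶ S) [IsIntegralHom π] {K : Type*} [Finite K]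
    (W : K → S.Opens) (hW : ∀ k, IsAffineOpen (W k)) (c : ∀ k, Γ(Z, π ⁻¹ᵁ W k)) :
    ∃ (T : Scheme.{u}) (q : Z ⟶ T) (g : T ⟶ S) (_ : IsFinite g) (_ : Surjective q) (hqg : q ≫ g = π),
      ∀ k, ∃ τ, (q.appLE (g ⁻¹ᵁ W k) (π ⁻¹ᵁ W k) (preimage_le_comp hqg (W k))).hom τ = c k := by
  classical
  haveI : CompactSpace Z := QuasiCompact.compactSpace_of_compactSpace π
  let F := RelSpec.QCAlg.directImage π
  haveI : Coh.IsQCoh F.toModule := ProjBundleLib.isQCoh_toModule F
  obtain ⟨E, i, hE, hfp, hmem⟩ := FPApproxLib.exists_fp_through F.toModule W hW (fun k => c k)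
  haveI := hE
  obtain ⟨ψ, hψ, -⟩ := RelSpecLib.isSymAlg_symAlg E F i
  let A := RelSpecLib.symAlg E
  let q₀ := RelSpecLib.lift A π ψ.hom
  have hq₀ : q₀ ≫ A.π = π := RelSpecLib.lift_π A π ψ.hom ψ.comm
  have hpre : ∀ U : S.Opens, q₀ ⁻¹ᵁ (A.π ⁻¹ᵁ U) = π ⁻¹ᵁ U := fun U => by rw [← Scheme.Hom.comp_preimage, hq₀]
  have himg : ∀ (U : S.affineOpens) (m : Γ(E, U.1)), ∃ σ,
      (q₀.appLE (A.π ⁻¹ᵁ U.1) (π ⁻¹ᵁ U.1) (hpre U.1).ge).hom σ = i.app U.1 m := fun U m => by
    haveI := SpecQCAlg.isIso_gammaAff A U.1 U.2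
    have h := RelSpecLib.gammaAff_algMap A π q₀ hq₀ U.1 U.2
    rw [show RelSpecLib.algMap A π q₀ hq₀ = ψ.hom from RelSpecLib.algMap_lift A π ψ.hom ψ.comm] at h
    obtain ⟨σ, hσ⟩ := (ConcreteCategory.bijective_of_isIso (A.gammaAff U.1 U.2)).2
      (RelSpecLib.jsec A (RelSpecLib.symJ E) m)
    refine ⟨σ, ?_⟩
    rw [← h, CommRingCat.comp_apply]
    erw [hσ]
    exact congrArg (fun k : E ⟶ F.toModule => k.app U.1 m) hψ
  haveI : IsAffineHom A.π := ⟨fun U hU => RelSpecLib.isAffineOpen_preimage A U hU⟩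
  haveI : IsAffineHom (q₀ ≫ A.π) := by rw [hq₀]; infer_instance
  haveI : IsAffineHom q₀ := IsAffineHom.of_comp q₀ A.π
  let T := q₀.image
  let q : Z ⟶ T := q₀.toImage
  let g : T ⟶ S := q₀.imageι ≫ A.π
  have hqg : q ≫ g = π := by rw [Scheme.Hom.toImage_imageι_assoc, hq₀]
  haveI := FPApproxLib.lfp_π_symAlg E hfp
  haveI : IsAffineHom (q ≫ q₀.imageι) := by rw [Scheme.Hom.toImage_imageι]; infer_instance
  haveI : IsAffineHom q := IsAffineHom.of_comp q q₀.imageι
  have hle : ∀ U : S.Opens, π ⁻¹ᵁ U ≤ q ⁻¹ᵁ (g ⁻¹ᵁ U) := preimage_le_comp hqg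
  have hθ : ∀ U : S.affineOpens, Function.Injective (q.appLE (g ⁻¹ᵁ U.1) (π ⁻¹ᵁ U.1) (hle U.1)).hom := fun U => by
    haveI : IsIso (Z.presheaf.map (homOfLE (hle U.1)).op) := by
      rw [Subsingleton.elim (homOfLE (hle U.1))
        (eqToHom (show π ⁻¹ᵁ U.1 = q ⁻¹ᵁ (g ⁻¹ᵁ U.1) by rw [← Scheme.Hom.comp_preimage, hqg]))]
      infer_instance
    rw [Scheme.Hom.appLE, CommRingCat.hom_comp, RingHom.coe_comp]
    exact (ConcreteCategory.bijective_of_isIso (Z.presheaf.map (homOfLE (hle U.1)).op)).1.comp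
      (q₀.toImage_app_injective ⟨A.π ⁻¹ᵁ U.1, RelSpecLib.isAffineOpen_preimage A U.1 U.2⟩)
  haveI hgf : IsFinite g := by
    refine (IsFinite.iff_isIntegralHom_and_locallyOfFiniteType _).mpr ⟨?_, inferInstance⟩
    refine (HasAffineProperty.iff_of_iSup_eq_top (P := @IsIntegralHom) (fun U : S.affineOpens => U)
      (iSup_affineOpens_eq_top S)).2 fun U => ⟨U.2.preimage g, ?_⟩
    rw [morphismRestrict_app, CommRingCat.hom_comp]
    refine RingHom.IsIntegral.trans _ _ ?_ (RingHom.isIntegral_of_surjective _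
      (ConcreteCategory.bijective_of_isIso _).2)
    have hint : (g.app U.1).hom.IsIntegral := by
      intro z
      have hfac : (q.appLE (g ⁻¹ᵁ U.1) (π ⁻¹ᵁ U.1) (hle U.1)).hom.comp (g.app U.1).hom = (π.app U.1).hom := by
        rw [← CommRingCat.hom_comp, ← Scheme.Hom.appLE_eq_app, Scheme.Hom.appLE_comp_appLE]
        simp only [hqg, Scheme.Hom.appLE_eq_app]
      obtain ⟨P, hP, hP0⟩ := IsIntegralHom.isIntegral_app π U.1 U.2 ((q.appLE (g ⁻¹ᵁ U.1) (π ⁻¹ᵁ U.1) (hle U.1)).hom z)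
      refine ⟨P, hP, hθ U ?_⟩
      rw [Polynomial.hom_eval₂, hfac, hP0, map_zero]
    have hV' : ∀ W : S.Opens, W = U.1 → (g.app W).hom.IsIntegral := fun W hW => by subst hW; exact hint
    exact hV' _ (Scheme.Opens.ι_image_top _)
  haveI : IsIntegralHom (q ≫ g) := by rw [hqg]; infer_instance
  haveI : IsIntegralHom q := IsIntegralHom.of_comp q g
  haveI : Surjective q := ⟨fun t => by
    have h := q.denseRange.closure_range
    rw [q.isClosedMap.isClosed_range.closure_eq] at h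
    exact h.ge trivial⟩
  refine ⟨T, q, g, hgf, inferInstance, hqg, fun k => ?_⟩
  obtain ⟨m, hm⟩ := hmem k
  obtain ⟨σ, hσ⟩ := himg ⟨W k, hW k⟩ m
  refine ⟨(q₀.imageι.appLE (A.π ⁻¹ᵁ W k) (g ⁻¹ᵁ W k) le_rfl).hom σ, ?_⟩
  rw [← CommRingCat.comp_apply, Scheme.Hom.appLE_comp_appLE]
  refine Eq.trans ?_ (hσ.trans hm)
  simp only [q, Scheme.Hom.toImage_imageι]

/-- A ring pushout is generated by the two maps. -/
theorem mem_of_isPushout {A B C D : CommRingCat.{u}} {f : A ⟶ B} {h : A ⟶ C} {a : B ⟶ D} {b : C ⟶ D}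
    (H : IsPushout f h a b) (R : Subring D) (ha : ∀ x, a.hom x ∈ R) (hb : ∀ x, b.hom x ∈ R) (z : D) : z ∈ R := by
  let a' : B ⟶ CommRingCat.of R := CommRingCat.ofHom (a.hom.codRestrict R ha)
  let b' : C ⟶ CommRingCat.of R := CommRingCat.ofHom (b.hom.codRestrict R hb)
  let i : CommRingCat.of R ⟶ D := CommRingCat.ofHom R.subtype
  have w : f ≫ a' = h ≫ b' := by
    ext x
    exact congr($(H.w) x)
  have e : H.desc a' b' w ≫ i = 𝟙 D := by
    refine H.hom_ext ?_ ?_
    · rw [H.inl_desc_assoc, Category.comp_id]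
      rfl
    · rw [H.inr_desc_assoc, Category.comp_id]
      rfl
  have h2 : ((H.desc a' b' w).hom z).1 = z := congr($e z)
  rw [← h2]
  exact ((H.desc a' b' w).hom z).2

section Descend

variable {U : Scheme.{u}} (u : U ⟶ S) (π : Z ⟶ S)

/-- The map between the base changes of the stages. -/
def stageMap {T : Scheme.{u}} {q : Z ⟶ T} {g : T ⟶ S} (hqg : q ≫ g = π) : pullback u π ⟶ pullback u g :=
  pullback.lift (pullback.fst u π) (pullback.snd u π ≫ q)
    (by rw [Category.assoc, hqg, pullback.condition])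

theorem surjective_stageMap {T : Scheme.{u}} {q : Z ⟶ T} {g : T ⟶ S} (hqg : q ≫ g = π) [Surjective q] :
    Surjective (stageMap u π hqg) := by
  have sq : IsPullback (stageMap u π hqg) (pullback.snd u π) (pullback.snd u g) q := by
    refine IsPullback.of_right ?_ (pullback.lift_snd _ _ _) (IsPullback.of_hasPullback u g)
    rw [stageMap, pullback.lift_fst, hqg]
    exact IsPullback.of_hasPullback u π
  exact MorphismProperty.of_isPullback sq.flip ‹Surjective q›

variable (W : S.Opens) (hu : ∀ x, u x ∈ W)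

/-- Sections on a base change come from finitely many sections of the integral scheme. -/
theorem exists_finset [IsAffine U] (hW : IsAffineOpen W) [IsAffineHom π] (hu : ∀ x, u x ∈ W) (e : Γ(pullback u π, ⊤)) :
    ∃ F : Finset Γ(Z, π ⁻¹ᵁ W), ∀ (T : Scheme.{u}) (q : Z ⟶ T) (g : T ⟶ S) (hqg : q ≫ g = π),
      (∀ d ∈ F, ∃ τ, (q.appLE (g ⁻¹ᵁ W) (π ⁻¹ᵁ W) (preimage_le_comp hqg W)).hom τ = d) →
        e ∈ ((stageMap u π hqg).appTop).hom.range := by
  classical
  let R : Subring Γ(pullback u π, ⊤) :=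
    { carrier := {e | ∃ F : Finset Γ(Z, π ⁻¹ᵁ W), ∀ (T : Scheme.{u}) (q : Z ⟶ T) (g : T ⟶ S) (hqg : q ≫ g = π),
        (∀ d ∈ F, ∃ τ, (q.appLE (g ⁻¹ᵁ W) (π ⁻¹ᵁ W) (preimage_le_comp hqg W)).hom τ = d) →
          e ∈ ((stageMap u π hqg).appTop).hom.range}
      zero_mem' := ⟨∅, fun _ _ _ _ _ => zero_mem _⟩
      one_mem' := ⟨∅, fun _ _ _ _ _ => one_mem _⟩
      neg_mem' := fun ⟨F, hF⟩ => ⟨F, fun T q g hqg h => neg_mem (hF T q g hqg h)⟩
      add_mem' := fun ⟨F, hF⟩ ⟨F', hF'⟩ => ⟨F ∪ F', fun T q g hqg h =>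
        add_mem (hF T q g hqg fun d hd => h d (Finset.mem_union_left _ hd))
          (hF' T q g hqg fun d hd => h d (Finset.mem_union_right _ hd))⟩
      mul_mem' := fun ⟨F, hF⟩ ⟨F', hF'⟩ => ⟨F ∪ F', fun T q g hqg h =>
        mul_mem (hF T q g hqg fun d hd => h d (Finset.mem_union_left _ hd))
          (hF' T q g hqg fun d hd => h d (Finset.mem_union_right _ hd))⟩ }
  have hru : Set.range u ⊆ Set.range W.ι := by
    rw [Scheme.Opens.range_ι]
    rintro _ ⟨x, rfl⟩
    exact hu x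
  let u₀ : U ⟶ W.toScheme := IsOpenImmersion.lift W.ι u hru
  have hu₀ : u₀ ≫ W.ι = u := IsOpenImmersion.lift_fac _ _ _
  have hsn : Set.range (pullback.snd u π) ⊆ Set.range (π ⁻¹ᵁ W).ι := by
    rw [Scheme.Opens.range_ι]
    rintro _ ⟨x, rfl⟩
    show π (pullback.snd u π x) ∈ W
    rw [← Scheme.Hom.comp_apply, ← pullback.condition, Scheme.Hom.comp_apply]
    exact hu _
  let s₀ : pullback u π ⟶ (π ⁻¹ᵁ W).toScheme := IsOpenImmersion.lift (π ⁻¹ᵁ W).ι (pullback.snd u π) hsn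
  have hs₀ : s₀ ≫ (π ⁻¹ᵁ W).ι = pullback.snd u π := IsOpenImmersion.lift_fac _ _ _
  have hsq : IsPullback (pullback.fst u π) s₀ u₀ (π ∣_ W) := by
    refine IsPullback.of_bot ?_ ?_ (isPullback_morphismRestrict π W)
    · rw [hs₀, hu₀]
      exact IsPullback.of_hasPullback u π
    · rw [← cancel_mono W.ι, Category.assoc, Category.assoc, hu₀, morphismRestrict_ι, reassoc_of% hs₀,
        pullback.condition]
  haveI : IsAffine W.toScheme := hW
  haveI : IsAffine (π ⁻¹ᵁ W).toScheme := hW.preimage π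
  refine mem_of_isPushout (isPushout_appTop_of_isPullback hsq) R (fun x => ⟨∅, fun T q g hqg _ => ?_⟩)
    (fun x => ?_) e
  · refine ⟨(pullback.fst u g).appTop.hom x, ?_⟩
    rw [← CommRingCat.comp_apply, ← Scheme.Hom.comp_appTop]
    simp [stageMap]
  · let y : Γ(Z, π ⁻¹ᵁ W) := (π ⁻¹ᵁ W).topIso.hom.hom x
    refine ⟨{y}, fun T q g hqg h => ?_⟩
    obtain ⟨τ, hτ⟩ := h y (Finset.mem_singleton_self _)
    have le : ⊤ ≤ pullback.snd u g ⁻¹ᵁ (g ⁻¹ᵁ W) := fun z _ => by
      show g (pullback.snd u g z) ∈ W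
      rw [← Scheme.Hom.comp_apply, ← pullback.condition, Scheme.Hom.comp_apply]
      exact hu _
    refine ⟨((pullback.snd u g).appLE (g ⁻¹ᵁ W) ⊤ le).hom τ, ?_⟩
    have h1 : (stageMap u π hqg) ≫ pullback.snd u g = pullback.snd u π ≫ q := pullback.lift_snd _ _ _
    have le2 : ⊤ ≤ pullback.snd u π ⁻¹ᵁ (π ⁻¹ᵁ W) := fun z _ => by
      have := hsn ⟨z, rfl⟩
      rwa [Scheme.Opens.range_ι] at this
    have hx : s₀.appTop.hom x = ((pullback.snd u π).appLE (π ⁻¹ᵁ W) ⊤ le2).hom y := by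
      simp only [y, ← CommRingCat.comp_apply]
      congr 2
      simp only [← hs₀, Scheme.Hom.comp_appLE, Scheme.Opens.ι_app, Scheme.Hom.appTop, Scheme.Hom.app_eq_appLE]
      simp [Scheme.Hom.appLE_map, Scheme.Hom.map_appLE]
      erw [← Category.assoc, ← Functor.map_comp]
      exact (Scheme.Hom.map_appLE s₀ _ (homOfLE le_top).op).symm
    rw [hx, ← hτ]
    simp only [Scheme.Hom.appTop, Scheme.Hom.app_eq_appLE, ← CommRingCat.comp_apply, Scheme.Hom.appLE_comp_appLE, h1]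
    rfl

/-- Open sets of the base change by the integral scheme descend to a stage, compatibly for all clopen partitions. -/
theorem exists_finset_locConst [IsAffine U] (hW : IsAffineOpen W) [IsAffineHom π] (hu : ∀ x, u x ∈ W) {M : Type*}
    [Finite M] [Inhabited M] (f : ↥(pullback u π) → M) (hf : IsLocallyConstant f) :
    ∃ F : Finset Γ(Z, π ⁻¹ᵁ W), ∀ (T : Scheme.{u}) (q : Z ⟶ T) (g : T ⟶ S) (hqg : q ≫ g = π), Surjective q →
      (∀ d ∈ F, ∃ τ, (q.appLE (g ⁻¹ᵁ W) (π ⁻¹ᵁ W) (preimage_le_comp hqg W)).hom τ = d) →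
        ∃ f' : ↥(pullback u g) → M, IsLocallyConstant f' ∧ ∀ z, f' (stageMap u π hqg z) = f z := by
  classical
  haveI := Fintype.ofFinite M
  haveI : IsAffine (pullback u π) := inferInstance
  have hclop : ∀ c, ∃ e : Γ(pullback u π, ⊤), ((pullback u π).basicOpen e : Set ↥(pullback u π)) = f ⁻¹' {c} := fun c => by
    let φ := (pullback u π).isoSpec
    have hA : IsClopen ((φ.inv) ⁻¹' (f ⁻¹' {c})) :=
      (hf.isClopen_fiber c).preimage φ.inv.continuous
    obtain ⟨e, -, he⟩ := PrimeSpectrum.isClopen_iff.1 hA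
    refine ⟨e, ?_⟩
    ext z
    have hz : φ.inv (φ.hom z) = z := by rw [← Scheme.Hom.comp_apply, φ.hom_inv_id]; rfl
    have h2 : φ.hom z ∈ (φ.inv ⁻¹' (f ⁻¹' {c})) ↔ f z = c := by simp [hz]
    rw [he] at h2
    have h3 : (pullback u π).toSpecΓ ⁻¹ᵁ (PrimeSpectrum.basicOpen e) = (pullback u π).basicOpen e :=
      Scheme.toSpecΓ_preimage_basicOpen _ e
    rw [← h3]
    exact h2
  choose e he using hclop
  choose F hF using fun c => exists_finset u π W hW hu (e c)
  refine ⟨Finset.univ.biUnion F, fun T q g hqg hq h => ?_⟩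
  haveI := hq
  haveI := surjective_stageMap u π hqg
  let k := stageMap u π hqg
  choose e' he' using fun c => hF c T q g hqg fun d hd => h d (Finset.mem_biUnion.2 ⟨c, Finset.mem_univ _, hd⟩)
  let σ : ↥(pullback u g) → ↥(pullback u π) := Function.surjInv k.surjective
  have hσ : ∀ z, k (σ z) = z := Function.surjInv_eq k.surjective
  have hmem : ∀ c z, k z ∈ (pullback u g).basicOpen (e' c) ↔ f z = c := fun c z => by
    change z ∈ k ⁻¹ᵁ (pullback u g).basicOpen (e' c) ↔ _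
    rw [Scheme.preimage_basicOpen, show (k.app ⊤).hom (e' c) = e c from he' c]
    exact Set.ext_iff.1 (he c) z
  have hfac : ∀ z, f (σ (k z)) = f z := fun z => by
    have h1 := (hmem (f z) z).2 rfl
    rw [← hσ (k z)] at h1
    exact (hmem (f z) (σ (k z))).1 h1
  refine ⟨fun z => f (σ z), (IsLocallyConstant.iff_exists_open _).2 fun z => ?_, hfac⟩
  refine ⟨((pullback u g).basicOpen (e' (f (σ z))) : Set _), ((pullback u g).basicOpen _).isOpen, ?_, fun y hy => ?_⟩
  · have h1 := (hmem (f (σ z)) (σ z)).2 rfl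
    rwa [hσ] at h1
  · rw [← hσ y] at hy
    exact (hmem (f (σ z)) (σ y)).1 hy

end Descend

end Groth.Agent.EmbedFinLib
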